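import Cfsg.Agent.Spor.Ly480.D0

set_option autoImplicit false
set_option maxRecDepth 100000000
set_option Elab.async false

namespace Cfsg.Agent.Spor.Ly480

theorem ok0 : Net.okb 9 n0 = true := by decide +kernel

theorem ok1 : Net.okb 9 n1 = true := by decide +kernel

theorem rel0 : T.rel 9 [1, 1, 1, 1, 1, 1, 1, 1] 0 9 = true := by decide +kernel

theorem rel1 : T.rel 9 [2, 2, 2, 2, 2] 0 9 = true := by decide +kernel

theorem rel2 : T.rel 9 [2, 1, 2, 1, 2, 1, 2, 1] 0 9 = true := by decide +kernel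

theorem rel3 : T.rel 9 [2, 1, 1, 4, 3, 3] 0 9 = true := by decide +kernel

theorem rel4 : T.rel 9 [2, 1, 4, 3, 2, 1, 4, 3, 2, 1, 4, 3] 0 9 = true := by decide +kernel

theorem hcov : T.treeCov (ones 480) L 1 = true := by decide +kernel

theorem hg : lall (fun z => band (memL L z) (band (sub (ones 480) (T.let z).cl) (T.closed (ones 480) z))) gs = true := by decide +kernel

theorem rot1_1 : T.rot 1 [3] (sel (ones 480) ip1 1) = true := by decide +kernel

theorem rot1_1r : band (Rule.ok (2 * 0) EX RL ⟨1 :: [3], [], 5, false⟩) (lall (memL L) [3]) = true := by decide +kernel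

theorem rot1_2 : T.rot 1 [1, 4, 3, 3, 2] (sel (ones 480) ip1 2) = true := by decide +kernel

theorem rot1_2r : band (Rule.ok (2 * 0) EX RL ⟨1 :: [1, 4, 3, 3, 2], [3], 3, true⟩) (lall (memL L) [1, 4, 3, 3, 2]) = true := by decide +kernel

theorem rot1_3 : T.rot 1 [4, 3, 3, 2, 1] (sel (ones 480) ip1 3) = true := by decide +kernel

theorem rot1_3r : band (Rule.ok (2 * 0) EX RL ⟨1 :: [4, 3, 3, 2, 1], [3, 1], 3, true⟩) (lall (memL L) [4, 3, 3, 2, 1]) = true := by decide +kernel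

theorem rot1_4 : T.rot 1 [1, 2, 3, 3, 4] (sel (ones 480) ip1 4) = true := by decide +kernel

theorem rot1_4r : band (Rule.ok (2 * 0) EX RL ⟨1 :: [1, 2, 3, 3, 4], [], 3, false⟩) (lall (memL L) [1, 2, 3, 3, 4]) = true := by decide +kernel

theorem rot1_5 : T.rot 1 [2, 3, 3, 4, 1] (sel (ones 480) ip1 5) = true := by decide +kernel

theorem rot1_5r : band (Rule.ok (2 * 0) EX RL ⟨1 :: [2, 3, 3, 4, 1], [1], 3, false⟩) (lall (memL L) [2, 3, 3, 4, 1]) = true := by decide +kernel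

theorem rot1_6 : T.rot 1 [1, 1, 1, 1, 1, 1, 1] (sel (ones 480) ip1 6) = true := by decide +kernel

theorem rot1_6r : band (Rule.ok (2 * 0) EX RL ⟨1 :: [1, 1, 1, 1, 1, 1, 1], [], 0, true⟩) (lall (memL L) [1, 1, 1, 1, 1, 1, 1]) = true := by decide +kernel

theorem rot1_7 : T.rot 1 [2, 1, 2, 1, 2, 1, 2] (sel (ones 480) ip1 7) = true := by decide +kernel

theorem rot1_7r : band (Rule.ok (2 * 0) EX RL ⟨1 :: [2, 1, 2, 1, 2, 1, 2], [0], 2, true⟩) (lall (memL L) [2, 1, 2, 1, 2, 1, 2]) = true := by decide +kernel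

theorem rot1_8 : T.rot 1 [4, 3, 2, 1, 4, 3, 2, 1, 4, 3, 2] (sel (ones 480) ip1 8) = true := by decide +kernel

theorem rot1_8r : band (Rule.ok (2 * 0) EX RL ⟨1 :: [4, 3, 2, 1, 4, 3, 2, 1, 4, 3, 2], [3], 4, true⟩) (lall (memL L) [4, 3, 2, 1, 4, 3, 2, 1, 4, 3, 2]) = true := by decide +kernel

theorem rot1_9 : T.rot 1 [2, 3, 4, 1, 2, 3, 4, 1, 2, 3, 4] (sel (ones 480) ip1 9) = true := by decide +kernel

theorem rot1_9r : band (Rule.ok (2 * 0) EX RL ⟨1 :: [2, 3, 4, 1, 2, 3, 4, 1, 2, 3, 4], [], 4, false⟩) (lall (memL L) [2, 3, 4, 1, 2, 3, 4, 1, 2, 3, 4]) = true := by decide +kernel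

theorem cov1 : T.cover 1 [(sel (ones 480) ip1 1), (sel (ones 480) ip1 2), (sel (ones 480) ip1 3), (sel (ones 480) ip1 4), (sel (ones 480) ip1 5), (sel (ones 480) ip1 6), (sel (ones 480) ip1 7), (sel (ones 480) ip1 8), (sel (ones 480) ip1 9)] = true := by decide +kernel

theorem tl1 : T.treeLt 9 1 = true := by decide +kernel

theorem rot2_1 : T.rot 2 [4] (sel (ones 480) ip2 1) = true := by decide +kernel

theorem rot2_1r : band (Rule.ok (2 * 0) EX RL ⟨2 :: [4], [], 5, false⟩) (lall (memL L) [4]) = true := by decide +kernel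

theorem rot2_2 : T.rot 2 [2, 2, 2, 2] (sel (ones 480) ip2 2) = true := by decide +kernel

theorem rot2_2r : band (Rule.ok (2 * 0) EX RL ⟨2 :: [2, 2, 2, 2], [], 1, true⟩) (lall (memL L) [2, 2, 2, 2]) = true := by decide +kernel

theorem rot2_3 : T.rot 2 [1, 1, 4, 3, 3] (sel (ones 480) ip2 3) = true := by decide +kernel

theorem rot2_3r : band (Rule.ok (2 * 0) EX RL ⟨2 :: [1, 1, 4, 3, 3], [], 3, true⟩) (lall (memL L) [1, 1, 4, 3, 3]) = true := by decide +kernel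

theorem rot2_4 : T.rot 2 [3, 3, 4, 1, 1] (sel (ones 480) ip2 4) = true := by decide +kernel

theorem rot2_4r : band (Rule.ok (2 * 0) EX RL ⟨2 :: [3, 3, 4, 1, 1], [1, 1], 3, false⟩) (lall (memL L) [3, 3, 4, 1, 1]) = true := by decide +kernel

theorem rot2_5 : T.rot 2 [1, 2, 1, 2, 1, 2, 1] (sel (ones 480) ip2 5) = true := by decide +kernel

theorem rot2_5r : band (Rule.ok (2 * 0) EX RL ⟨2 :: [1, 2, 1, 2, 1, 2, 1], [], 2, true⟩) (lall (memL L) [1, 2, 1, 2, 1, 2, 1]) = true := by decide +kernel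

theorem rot2_6 : T.rot 2 [1, 4, 3, 2, 1, 4, 3, 2, 1, 4, 3] (sel (ones 480) ip2 6) = true := by decide +kernel

theorem rot2_6r : band (Rule.ok (2 * 0) EX RL ⟨2 :: [1, 4, 3, 2, 1, 4, 3, 2, 1, 4, 3], [], 4, true⟩) (lall (memL L) [1, 4, 3, 2, 1, 4, 3, 2, 1, 4, 3]) = true := by decide +kernel

theorem rot2_7 : T.rot 2 [3, 4, 1, 2, 3, 4, 1, 2, 3, 4, 1] (sel (ones 480) ip2 7) = true := by decide +kernel

theorem rot2_7r : band (Rule.ok (2 * 0) EX RL ⟨2 :: [3, 4, 1, 2, 3, 4, 1, 2, 3, 4, 1], [1], 4, false⟩) (lall (memL L) [3, 4, 1, 2, 3, 4, 1, 2, 3, 4, 1]) = true := by decide +kernel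

theorem cov2 : T.cover 2 [(sel (ones 480) ip2 1), (sel (ones 480) ip2 2), (sel (ones 480) ip2 3), (sel (ones 480) ip2 4), (sel (ones 480) ip2 5), (sel (ones 480) ip2 6), (sel (ones 480) ip2 7)] = true := by decide +kernel

theorem tl2 : T.treeLt 9 2 = true := by decide +kernel

theorem rot3_1 : T.rot 3 [1] (sel (ones 480) ip3 1) = true := by decide +kernel

theorem rot3_1r : band (Rule.ok (2 * 0) EX RL ⟨3 :: [1], [], 5, false⟩) (lall (memL L) [1]) = true := by decide +kernel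

theorem rot3_2 : T.rot 3 [3, 2, 1, 1, 4] (sel (ones 480) ip3 2) = true := by decide +kernel

theorem rot3_2r : band (Rule.ok (2 * 0) EX RL ⟨3 :: [3, 2, 1, 1, 4], [1, 1], 3, true⟩) (lall (memL L) [3, 2, 1, 1, 4]) = true := by decide +kernel

theorem rot3_3 : T.rot 3 [2, 1, 1, 4, 3] (sel (ones 480) ip3 3) = true := by decide +kernel

theorem rot3_3r : band (Rule.ok (2 * 0) EX RL ⟨3 :: [2, 1, 1, 4, 3], [1], 3, true⟩) (lall (memL L) [2, 1, 1, 4, 3]) = true := by decide +kernel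

theorem rot3_4 : T.rot 3 [3, 4, 1, 1, 2] (sel (ones 480) ip3 4) = true := by decide +kernel

theorem rot3_4r : band (Rule.ok (2 * 0) EX RL ⟨3 :: [3, 4, 1, 1, 2], [3, 1, 1], 3, false⟩) (lall (memL L) [3, 4, 1, 1, 2]) = true := by decide +kernel

theorem rot3_5 : T.rot 3 [4, 1, 1, 2, 3] (sel (ones 480) ip3 5) = true := by decide +kernel

theorem rot3_5r : band (Rule.ok (2 * 0) EX RL ⟨3 :: [4, 1, 1, 2, 3], [3, 1], 3, false⟩) (lall (memL L) [4, 1, 1, 2, 3]) = true := by decide +kernel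

theorem rot3_6 : T.rot 3 [3, 3, 3, 3, 3, 3, 3] (sel (ones 480) ip3 6) = true := by decide +kernel

theorem rot3_6r : band (Rule.ok (2 * 0) EX RL ⟨3 :: [3, 3, 3, 3, 3, 3, 3], [], 0, false⟩) (lall (memL L) [3, 3, 3, 3, 3, 3, 3]) = true := by decide +kernel

theorem rot3_7 : T.rot 3 [4, 3, 4, 3, 4, 3, 4] (sel (ones 480) ip3 7) = true := by decide +kernel

theorem rot3_7r : band (Rule.ok (2 * 0) EX RL ⟨3 :: [4, 3, 4, 3, 4, 3, 4], [], 2, false⟩) (lall (memL L) [4, 3, 4, 3, 4, 3, 4]) = true := by decide +kernel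

theorem rot3_8 : T.rot 3 [2, 1, 4, 3, 2, 1, 4, 3, 2, 1, 4] (sel (ones 480) ip3 8) = true := by decide +kernel

theorem rot3_8r : band (Rule.ok (2 * 0) EX RL ⟨3 :: [2, 1, 4, 3, 2, 1, 4, 3, 2, 1, 4], [1], 4, true⟩) (lall (memL L) [2, 1, 4, 3, 2, 1, 4, 3, 2, 1, 4]) = true := by decide +kernel

theorem rot3_9 : T.rot 3 [4, 1, 2, 3, 4, 1, 2, 3, 4, 1, 2] (sel (ones 480) ip3 9) = true := by decide +kernel

theorem rot3_9r : band (Rule.ok (2 * 0) EX RL ⟨3 :: [4, 1, 2, 3, 4, 1, 2, 3, 4, 1, 2], [3, 1], 4, false⟩) (lall (memL L) [4, 1, 2, 3, 4, 1, 2, 3, 4, 1, 2]) = true := by decide +kernel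

theorem cov3 : T.cover 3 [(sel (ones 480) ip3 1), (sel (ones 480) ip3 2), (sel (ones 480) ip3 3), (sel (ones 480) ip3 4), (sel (ones 480) ip3 5), (sel (ones 480) ip3 6), (sel (ones 480) ip3 7), (sel (ones 480) ip3 8), (sel (ones 480) ip3 9)] = true := by decide +kernel

theorem tl3 : T.treeLt 9 3 = true := by decide +kernel

theorem rot4_1 : T.rot 4 [2] (sel (ones 480) ip4 1) = true := by decide +kernel

theorem rot4_1r : band (Rule.ok (2 * 0) EX RL ⟨4 :: [2], [], 5, false⟩) (lall (memL L) [2]) = true := by decide +kernel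

theorem rot4_2 : T.rot 4 [4, 4, 4, 4] (sel (ones 480) ip4 2) = true := by decide +kernel

theorem rot4_2r : band (Rule.ok (2 * 0) EX RL ⟨4 :: [4, 4, 4, 4], [], 1, false⟩) (lall (memL L) [4, 4, 4, 4]) = true := by decide +kernel

theorem rot4_3 : T.rot 4 [3, 3, 2, 1, 1] (sel (ones 480) ip4 3) = true := by decide +kernel

theorem rot4_3r : band (Rule.ok (2 * 0) EX RL ⟨4 :: [3, 3, 2, 1, 1], [1, 1, 3], 3, true⟩) (lall (memL L) [3, 3, 2, 1, 1]) = true := by decide +kernel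

theorem rot4_4 : T.rot 4 [1, 1, 2, 3, 3] (sel (ones 480) ip4 4) = true := by decide +kernel

theorem rot4_4r : band (Rule.ok (2 * 0) EX RL ⟨4 :: [1, 1, 2, 3, 3], [3], 3, false⟩) (lall (memL L) [1, 1, 2, 3, 3]) = true := by decide +kernel

theorem rot4_5 : T.rot 4 [3, 4, 3, 4, 3, 4, 3] (sel (ones 480) ip4 5) = true := by decide +kernel

theorem rot4_5r : band (Rule.ok (2 * 0) EX RL ⟨4 :: [3, 4, 3, 4, 3, 4, 3], [3], 2, false⟩) (lall (memL L) [3, 4, 3, 4, 3, 4, 3]) = true := by decide +kernel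

theorem rot4_6 : T.rot 4 [3, 2, 1, 4, 3, 2, 1, 4, 3, 2, 1] (sel (ones 480) ip4 6) = true := by decide +kernel

theorem rot4_6r : band (Rule.ok (2 * 0) EX RL ⟨4 :: [3, 2, 1, 4, 3, 2, 1, 4, 3, 2, 1], [1, 3], 4, true⟩) (lall (memL L) [3, 2, 1, 4, 3, 2, 1, 4, 3, 2, 1]) = true := by decide +kernel

theorem rot4_7 : T.rot 4 [1, 2, 3, 4, 1, 2, 3, 4, 1, 2, 3] (sel (ones 480) ip4 7) = true := by decide +kernel

theorem rot4_7r : band (Rule.ok (2 * 0) EX RL ⟨4 :: [1, 2, 3, 4, 1, 2, 3, 4, 1, 2, 3], [3], 4, false⟩) (lall (memL L) [1, 2, 3, 4, 1, 2, 3, 4, 1, 2, 3]) = true := by decide +kernel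

theorem cov4 : T.cover 4 [(sel (ones 480) ip4 1), (sel (ones 480) ip4 2), (sel (ones 480) ip4 3), (sel (ones 480) ip4 4), (sel (ones 480) ip4 5), (sel (ones 480) ip4 6), (sel (ones 480) ip4 7)] = true := by decide +kernel

theorem tl4 : T.treeLt 9 4 = true := by decide +kernel

end Cfsg.Agent.Spor.Ly480
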